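import Groth.Agent.HenselBranchLib.IntegralHens
import Groth.Prelude.Def_Hensel
import Mathlib

/-!
# Quotients of strict henselizations
-/

set_option autoImplicit false
set_option maxHeartbeats 1000000
set_option linter.style.haveILetI false
set_option backward.isDefEq.respectTransparency false

universe u

open IsLocalRing

namespace TensorBranchLib

theorem isSepClosed_of_ringEquiv' {k K : Type u} [Field k] [Field K] [IsSepClosed k] (e : k ≃+* K) : IsSepClosed K := by
  letI : Algebra k K := (e : k →+* K).toAlgebra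
  haveI : Algebra.IsAlgebraic k K := ⟨fun x => by
    obtain ⟨a, rfl⟩ := e.surjective x
    exact isAlgebraic_algebraMap a⟩
  exact Algebra.IsAlgebraic.isSepClosed (F := k)

/-- A quotient of a strict henselization is a strict henselization of the quotient. -/
theorem isStrictHenselization_quotient {A S : Type u} [CommRing A] [IsLocalRing A] [CommRing S] [IsLocalRing S]
    [Algebra A S] [IsLocalHom (algebraMap A S)] [Hensel.IsStrictHenselization A S] (I : Ideal A)
    [IsLocalRing (A ⧸ I)] [IsLocalRing (S ⧸ I.map (algebraMap A S))]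
    [IsLocalHom (algebraMap (A ⧸ I) (S ⧸ I.map (algebraMap A S)))] :
    Hensel.IsStrictHenselization (A ⧸ I) (S ⧸ I.map (algebraMap A S)) := by
  haveI : HenselianLocalRing S := Hensel.IsStrictHenselization.henselian (R := A)
  letI : Algebra S (S ⧸ I.map (algebraMap A S)) := Ideal.Quotient.algebra S
  haveI : Algebra.IsIntegral S (S ⧸ I.map (algebraMap A S)) :=
    ⟨fun x => by obtain ⟨s, rfl⟩ := Ideal.Quotient.mk_surjective x; exact isIntegral_algebraMap⟩
  let πA : A →+* A ⧸ I := Ideal.Quotient.mk I
  let πS : S →+* S ⧸ I.map (algebraMap A S) := Ideal.Quotient.mk _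
  haveI : IsLocalHom πA := IsLocalHom.of_surjective _ Ideal.Quotient.mk_surjective
  haveI : IsLocalHom πS := IsLocalHom.of_surjective _ Ideal.Quotient.mk_surjective
  let ρA := ResidueField.map πA
  let ρS := ResidueField.map πS
  have hρA : Function.Bijective ρA := ⟨RingHom.injective _, fun z => by
    obtain ⟨x, rfl⟩ := residue_surjective z
    obtain ⟨a, rfl⟩ := Ideal.Quotient.mk_surjective x
    exact ⟨residue A a, ResidueField.map_residue _ _⟩⟩
  have hρS : Function.Bijective ρS := ⟨RingHom.injective _, fun z => by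
    obtain ⟨x, rfl⟩ := residue_surjective z
    obtain ⟨a, rfl⟩ := Ideal.Quotient.mk_surjective x
    exact ⟨residue S a, ResidueField.map_residue _ _⟩⟩
  have hsq : (ResidueField.map (algebraMap (A ⧸ I) (S ⧸ I.map (algebraMap A S)))).comp ρA =
      ρS.comp (ResidueField.map (algebraMap A S)) := RingHom.ext fun z => by
    obtain ⟨a, rfl⟩ := residue_surjective z
    rfl
  haveI hsc : IsSepClosure (ResidueField A) (ResidueField S) := Hensel.IsStrictHenselization.isSepClosure
  refine ⟨HenselBranchLib.henselianLocalRing_of_isIntegral' S _, ?_, fun T _ _ f hf τ hτ => ?_⟩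
  · haveI := hsc.sep_closed
    haveI := hsc.separable
    refine ⟨isSepClosed_of_ringEquiv' (RingEquiv.ofBijective ρS hρS), ?_⟩
    exact Algebra.IsSeparable.of_equiv_equiv (RingEquiv.ofBijective ρA hρA) (RingEquiv.ofBijective ρS hρS) hsq
  haveI := hf
  obtain ⟨g, ⟨hg, hgτ⟩, hgu⟩ := Hensel.IsStrictHenselization.universal (R := A) (S := S) T (f.comp πA) (τ.comp ρS)
    (RingHom.ext fun z => by
      obtain ⟨a, rfl⟩ := residue_surjective z
      have := RingHom.congr_fun hτ (residue (A ⧸ I) (πA a))
      exact this)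
  have hI' : ∀ s ∈ I.map (algebraMap A S), g s = 0 := fun s hs => by
    refine (Ideal.map_le_iff_le_comap.2 fun a ha => ?_ : I.map (algebraMap A S) ≤ RingHom.ker g) hs
    rw [Ideal.mem_comap, RingHom.mem_ker]
    refine (RingHom.congr_fun hg a).trans ?_
    show f (Ideal.Quotient.mk I a) = 0
    rw [Ideal.Quotient.eq_zero_iff_mem.2 ha, map_zero]
  refine ⟨Ideal.Quotient.lift _ g hI', ⟨Ideal.Quotient.ringHom_ext (RingHom.ext fun a => RingHom.congr_fun hg a),
    fun x => ?_⟩, fun G hG => Ideal.Quotient.ringHom_ext ?_⟩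
  · obtain ⟨s, rfl⟩ := Ideal.Quotient.mk_surjective x
    rw [Ideal.Quotient.lift_mk, hgτ]
    rfl
  · rw [hgu (G.comp πS) ⟨RingHom.ext fun a => RingHom.congr_fun hG.1 (πA a), fun s => by
      rw [RingHom.comp_apply, hG.2]; rfl⟩]
    rfl

end TensorBranchLib
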