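import Groth.Agent.S2691
import Groth.Agent.S2135
import Groth.Agent.S9628
import Groth.Agent.SweepSix.TensorDomain
import Groth.Agent.HensFormalLib.NormalBCUnibranch
import Groth.Agent.HensFormalLib.Basic
import Groth.Agent.HenselBranchLib.IntegralHens
import Groth.Agent.S0539

/-!
# Branches of tensor products of henselian algebras over an algebraically closed field
-/

set_option autoImplicit false
set_option maxHeartbeats 2000000
set_option linter.style.haveILetI false
set_option synthInstance.maxHeartbeats 400000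
set_option backward.isDefEq.respectTransparency false

universe u

open IsLocalRing TensorProduct

namespace TensorBranchLib

variable {k : Type u} [Field k] [IsAlgClosed k]

theorem isDomain_tensor (A B : Type u) [CommRing A] [IsDomain A] [Algebra k A] [CommRing B] [IsDomain B]
    [Algebra k B] : IsDomain (A ⊗[k] B) :=
  Groth.Agent.S9628.result (fun k' _ _ => SweepSix.isDomain_tensor k' B)

theorem isGeometricallyReduced (F : Type u) [Field F] [Algebra k F] : Algebra.IsGeometricallyReduced k F := by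
  rw [Algebra.isGeometricallyReduced_field_iff]
  haveI := SweepSix.isDomain_tensor (k := k) (AlgebraicClosure k) F
  infer_instance

theorem isIntegrallyClosed_tensor (A B : Type u) [CommRing A] [IsDomain A] [IsIntegrallyClosed A] [Algebra k A]
    [CommRing B] [IsDomain B] [IsIntegrallyClosed B] [Algebra k B] [IsDomain (A ⊗[k] B)] :
    IsIntegrallyClosed (A ⊗[k] B) := by
  haveI := isGeometricallyReduced (k := k) (FractionRing A)
  haveI := isGeometricallyReduced (k := k) (FractionRing B)
  refine IsIntegrallyClosed.of_localization_maximal fun p _ _ => ?_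
  exact (Groth.Agent.S2691.result k A B p).2

/-- An integral extension domain of a henselian local algebra with residue field `k` has residue field `k`. -/
theorem exists_residue (A N : Type u) [CommRing A] [HenselianLocalRing A] [Algebra k A]
    (hA : Function.Bijective ((residue A).comp (algebraMap k A))) [CommRing N] [IsDomain N] [Algebra A N]
    [Algebra k N] [IsScalarTower k A N] [Algebra.IsIntegral A N] [IsLocalRing N] :
    ∀ x : N, ∃ c : k, x - algebraMap k N c ∈ maximalIdeal N := by
  haveI := HensFormalLib.isLocalHom_of_isIntegral A N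
  haveI : Algebra.IsIntegral k (ResidueField N) := by
    refine ⟨fun z => ?_⟩
    obtain ⟨x, rfl⟩ := residue_surjective z
    obtain ⟨f, hf, hfx⟩ := Algebra.IsIntegral.isIntegral (R := A) x
    let e : k ≃+* ResidueField A := RingEquiv.ofBijective _ hA
    refine ⟨f.map ((e.symm : ResidueField A →+* k).comp (residue A)), hf.map _, ?_⟩
    have hcomp : (algebraMap k (ResidueField N)).comp ((e.symm : ResidueField A →+* k).comp (residue A)) =
        (residue N).comp (algebraMap A N) := by
      refine RingHom.ext fun a => ?_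
      obtain ⟨c, hc⟩ := hA.2 (residue A a)
      have hce : e.symm (residue A a) = c := by rw [← hc]; exact e.symm_apply_apply c
      show algebraMap k (ResidueField N) (e.symm (residue A a)) = residue N (algebraMap A N a)
      rw [hce, IsScalarTower.algebraMap_apply k N (ResidueField N), IsScalarTower.algebraMap_apply k A N]
      show residue N (algebraMap A N (algebraMap k A c)) = residue N (algebraMap A N a)
      rw [← ResidueField.map_residue, ← ResidueField.map_residue (algebraMap A N) a, ← hc]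
      rfl
    rw [Polynomial.eval₂_map, hcomp, ← Polynomial.hom_eval₂, hfx, map_zero]
  intro x
  obtain ⟨c, hc⟩ := IsAlgClosed.algebraMap_bijective_of_isIntegral (k := k) (K := ResidueField N) |>.2 (residue N x)
  refine ⟨c, (Ideal.Quotient.mk_eq_mk_iff_sub_mem _ _).1 ?_⟩
  rw [IsScalarTower.algebraMap_apply k N (ResidueField N)] at hc
  exact hc.symm

theorem isGeomUnibranch_localization_aux (A B : Type u) [CommRing A] [IsDomain A] [IsLocalRing A] [Algebra k A]
    [CommRing B] [IsDomain B] [IsLocalRing B] [Algebra k B]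
    (NA NB : Type u) [CommRing NA] [IsDomain NA] [IsIntegrallyClosed NA] [IsLocalRing NA] [Algebra A NA]
    [Algebra k NA] [IsScalarTower k A NA] [Algebra.IsIntegral A NA]
    [CommRing NB] [IsDomain NB] [IsIntegrallyClosed NB] [IsLocalRing NB] [Algebra B NB]
    [Algebra k NB] [IsScalarTower k B NB] [Algebra.IsIntegral B NB]
    (hiA : Function.Injective (algebraMap A NA)) (hiB : Function.Injective (algebraMap B NB))
    (hbA : ∀ u : NA, ∃ a : A, a ≠ 0 ∧ ∃ c : A, algebraMap A NA a * u = algebraMap A NA c)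
    (hbB : ∀ u : NB, ∃ a : B, a ≠ 0 ∧ ∃ c : B, algebraMap B NB a * u = algebraMap B NB c)
    (hrA : ∀ x : NA, ∃ c : k, x - algebraMap k NA c ∈ maximalIdeal NA)
    (hrB : ∀ x : NB, ∃ c : k, x - algebraMap k NB c ∈ maximalIdeal NB)
    (Q : Ideal (A ⊗[k] B)) [Q.IsPrime] (hQA : ∀ a ∈ maximalIdeal A, a ⊗ₜ[k] (1 : B) ∈ Q)
    (hQB : ∀ b ∈ maximalIdeal B, (1 : A) ⊗ₜ[k] b ∈ Q) :
    CAlg2.IsGeomUnibranch (Localization.AtPrime Q) := by
  haveI := isDomain_tensor (k := k) A B
  haveI := isDomain_tensor (k := k) NA NB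
  haveI := isIntegrallyClosed_tensor (k := k) NA NB
  let ιA : A →ₐ[k] NA := IsScalarTower.toAlgHom k A NA
  let ιB : B →ₐ[k] NB := IsScalarTower.toAlgHom k B NB
  let ι : A ⊗[k] B →ₐ[k] (NA ⊗[k] NB) := Algebra.TensorProduct.map ιA ιB
  have hιinj : Function.Injective ι := by
    exact TensorProduct.map_injective_of_flat_flat ιA.toLinearMap ιB.toLinearMap hiA hiB
  letI : Algebra (A ⊗[k] B) (NA ⊗[k] NB) := ι.toRingHom.toAlgebra
  have hιdef : ∀ z, algebraMap (A ⊗[k] B) (NA ⊗[k] NB) z = ι z := fun _ => rfl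
  haveI : Algebra.IsIntegral (A ⊗[k] B) (NA ⊗[k] NB) := by
    refine ⟨fun t => ?_⟩
    induction t using TensorProduct.induction_on with
    | zero => exact isIntegral_zero
    | tmul x y =>
      have hl : ∀ x : NA, IsIntegral (A ⊗[k] B) (x ⊗ₜ[k] (1 : NB)) := fun x => by
        obtain ⟨f, hf, hfx⟩ := Algebra.IsIntegral.isIntegral (R := A) x
        refine ⟨f.map (Algebra.TensorProduct.includeLeftRingHom : A →+* A ⊗[k] B), hf.map _, ?_⟩
        have hc : (algebraMap (A ⊗[k] B) (NA ⊗[k] NB)).comp (Algebra.TensorProduct.includeLeftRingHom : A →+* A ⊗[k] B) =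
            (Algebra.TensorProduct.includeLeftRingHom : NA →+* (NA ⊗[k] NB)).comp (algebraMap A NA) := RingHom.ext fun a => by
          show ι (a ⊗ₜ[k] (1 : B)) = (algebraMap A NA a) ⊗ₜ[k] (1 : NB)
          rw [Algebra.TensorProduct.map_tmul, map_one]
          rfl
        rw [Polynomial.eval₂_map, hc]
        show Polynomial.eval₂ _ ((Algebra.TensorProduct.includeLeftRingHom : NA →+* (NA ⊗[k] NB)) x) f = 0
        rw [← Polynomial.hom_eval₂, hfx, map_zero]
      have hr : ∀ y : NB, IsIntegral (A ⊗[k] B) ((1 : NA) ⊗ₜ[k] y) := fun y => by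
        obtain ⟨f, hf, hfy⟩ := Algebra.IsIntegral.isIntegral (R := B) y
        refine ⟨f.map (Algebra.TensorProduct.includeRight : B →ₐ[k] A ⊗[k] B).toRingHom, hf.map _, ?_⟩
        have hc : (algebraMap (A ⊗[k] B) (NA ⊗[k] NB)).comp (Algebra.TensorProduct.includeRight : B →ₐ[k] A ⊗[k] B).toRingHom =
            (Algebra.TensorProduct.includeRight : NB →ₐ[k] (NA ⊗[k] NB)).toRingHom.comp (algebraMap B NB) := RingHom.ext fun b => by
          show ι ((1 : A) ⊗ₜ[k] b) = (1 : NA) ⊗ₜ[k] (algebraMap B NB b)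
          rw [Algebra.TensorProduct.map_tmul, map_one]
          rfl
        rw [Polynomial.eval₂_map, hc]
        show Polynomial.eval₂ _ ((Algebra.TensorProduct.includeRight : NB →ₐ[k] (NA ⊗[k] NB)).toRingHom y) f = 0
        rw [← Polynomial.hom_eval₂, hfy, map_zero]
      rw [show x ⊗ₜ[k] y = (x ⊗ₜ[k] (1 : NB)) * ((1 : NA) ⊗ₜ[k] y) by
        rw [Algebra.TensorProduct.tmul_mul_tmul, mul_one, one_mul]]
      exact (hl x).mul (hr y)
    | add x y hx hy => exact hx.add hy
  -- the origin upstairs
  let MN : Ideal (NA ⊗[k] NB) := Ideal.span {t | (∃ x ∈ maximalIdeal NA, t = x ⊗ₜ[k] (1 : NB)) ∨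
    ∃ y ∈ maximalIdeal NB, t = (1 : NA) ⊗ₜ[k] y}
  have hMNle : ∀ (M : Ideal (NA ⊗[k] NB)) [M.IsPrime], M.comap (algebraMap (A ⊗[k] B) (NA ⊗[k] NB)) = Q → MN ≤ M := by
    intro M _ hM
    rw [Ideal.span_le]
    rintro _ (⟨x, hx, rfl⟩ | ⟨y, hy, rfl⟩)
    · let P := M.comap (Algebra.TensorProduct.includeLeftRingHom : NA →+* (NA ⊗[k] NB))
      have hPA : P.comap (algebraMap A NA) = maximalIdeal A := by
        refine ((maximalIdeal.isMaximal A).eq_of_le (Ideal.IsPrime.ne_top') fun a ha => ?_).symm
        have h1 := hM.ge (hQA a ha)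
        rw [Ideal.mem_comap, hιdef, Algebra.TensorProduct.map_tmul, map_one] at h1
        exact h1
      haveI : P.IsMaximal := Ideal.isMaximal_of_isIntegral_of_isMaximal_comap (R := A) P
        (hPA ▸ maximalIdeal.isMaximal A)
      exact (IsLocalRing.eq_maximalIdeal ‹P.IsMaximal›).ge hx
    · let P := M.comap (Algebra.TensorProduct.includeRight : NB →ₐ[k] (NA ⊗[k] NB)).toRingHom
      have hPB : P.comap (algebraMap B NB) = maximalIdeal B := by
        refine ((maximalIdeal.isMaximal B).eq_of_le (Ideal.IsPrime.ne_top') fun b hb => ?_).symm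
        have h1 := hM.ge (hQB b hb)
        rw [Ideal.mem_comap, hιdef, Algebra.TensorProduct.map_tmul, map_one] at h1
        exact h1
      haveI : P.IsMaximal := Ideal.isMaximal_of_isIntegral_of_isMaximal_comap (R := B) P
        (hPB ▸ maximalIdeal.isMaximal B)
      exact (IsLocalRing.eq_maximalIdeal ‹P.IsMaximal›).ge hy
  have hMNres : ∀ t : (NA ⊗[k] NB), ∃ c : k, t - algebraMap k (NA ⊗[k] NB) c ∈ MN := by
    intro t
    induction t using TensorProduct.induction_on with
    | zero => exact ⟨0, by simp⟩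
    | tmul x y =>
      obtain ⟨c, hc⟩ := hrA x
      obtain ⟨d, hd⟩ := hrB y
      refine ⟨c * d, ?_⟩
      have h1 : (x - algebraMap k NA c) ⊗ₜ[k] (1 : NB) ∈ MN := Ideal.subset_span (Or.inl ⟨_, hc, rfl⟩)
      have h1' : (1 : NA) ⊗ₜ[k] (y - algebraMap k NB d) ∈ MN := Ideal.subset_span (Or.inr ⟨_, hd, rfl⟩)
      have h2 : x ⊗ₜ[k] y - algebraMap k (NA ⊗[k] NB) (c * d) =
          ((x - algebraMap k NA c) ⊗ₜ[k] (1 : NB)) * ((1 : NA) ⊗ₜ[k] y) +
            algebraMap k (NA ⊗[k] NB) c * ((1 : NA) ⊗ₜ[k] (y - algebraMap k NB d)) := by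
        simp only [TensorProduct.sub_tmul, TensorProduct.tmul_sub, Algebra.algebraMap_eq_smul_one,
          TensorProduct.tmul_smul, TensorProduct.smul_tmul', Algebra.TensorProduct.one_def,
          Algebra.TensorProduct.tmul_mul_tmul, sub_mul, mul_sub, smul_mul_assoc, mul_smul_comm, one_mul, mul_one,
          smul_smul, smul_sub]
        simp only [mul_comm d c]
        abel
      rw [h2]
      exact add_mem (MN.mul_mem_right _ h1) (MN.mul_mem_left _ h1')
    | add x y hx hy =>
      obtain ⟨c, hc⟩ := hx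
      obtain ⟨d, hd⟩ := hy
      exact ⟨c + d, by rw [map_add, add_sub_add_comm]; exact add_mem hc hd⟩
  have hMuniq : ∀ (M M' : Ideal (NA ⊗[k] NB)), M.IsPrime → M'.IsPrime → M.comap (algebraMap (A ⊗[k] B) (NA ⊗[k] NB)) = Q →
      M'.comap (algebraMap (A ⊗[k] B) (NA ⊗[k] NB)) = Q → M ≤ M' := by
    intro M M' hMp hMp' hM hM' t ht
    haveI := hMp
    haveI := hMp'
    obtain ⟨c, hc⟩ := hMNres t
    by_cases hc0 : c = 0
    · rw [hc0, map_zero, sub_zero] at hc
      exact hMNle M' hM' hc
    · have h1 := M.sub_mem ht (hMNle M hM hc)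
      rw [sub_sub_cancel] at h1
      exact absurd (Ideal.eq_top_of_isUnit_mem _ h1 ((IsUnit.mk0 c hc0).map _)) hMp.ne_top
  -- localise
  let W := Algebra.algebraMapSubmonoid (NA ⊗[k] NB) Q.primeCompl
  let S := Localization W
  let R := Localization.AtPrime Q
  have hW : W ≤ nonZeroDivisors (NA ⊗[k] NB) := by
    rintro _ ⟨d, hd, rfl⟩
    refine mem_nonZeroDivisors_of_ne_zero fun h => hd ?_
    rw [show d = 0 from hιinj (h.trans (map_zero ι).symm)]
    exact zero_mem _
  haveI : IsDomain S := IsLocalization.isDomain_localization hW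
  haveI : IsIntegrallyClosed S := isIntegrallyClosed_of_isLocalization S W hW
  letI : Algebra R S := localizationAlgebra Q.primeCompl (NA ⊗[k] NB)
  haveI : Algebra.IsIntegral R S := ⟨isIntegral_localization (M := Q.primeCompl) (Rₘ := R) (Sₘ := S)⟩
  have hmap : ∀ d : A ⊗[k] B, algebraMap R S (algebraMap (A ⊗[k] B) R d) = algebraMap (NA ⊗[k] NB) S (ι d) := fun d => by
    show IsLocalization.map S _ _ _ = _
    rw [IsLocalization.map_eq]
    rfl
  have hcompQ : ∀ (I : Ideal S), I.IsMaximal →
      (I.comap (algebraMap (NA ⊗[k] NB) S)).comap (algebraMap (A ⊗[k] B) (NA ⊗[k] NB)) = Q := by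
    intro I hI
    haveI := hI
    haveI : (I.comap (algebraMap R S)).IsMaximal := Ideal.isMaximal_comap_of_isIntegral_of_isMaximal I
    rw [← Localization.AtPrime.under_maximalIdeal (I := Q), ← IsLocalRing.eq_maximalIdeal ‹(I.comap (algebraMap R S)).IsMaximal›]
    ext d
    simp only [Ideal.mem_comap, Ideal.under_def, hmap, hιdef]
    show _ ↔ algebraMap R S (algebraMap (A ⊗[k] B) R d) ∈ I
    rw [hmap]
  haveI : IsLocalRing S := by
    obtain ⟨I, hI⟩ := Ideal.exists_maximal S
    refine IsLocalRing.of_unique_max_ideal ⟨I, hI, fun J hJ => ?_⟩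
    haveI := hI
    haveI := hJ
    have h1 : ∀ X Y : Ideal S, X.IsMaximal → Y.IsMaximal → X ≤ Y := fun X Y hX hY => by
      haveI := hX
      haveI := hY
      rw [← IsLocalization.map_comap W S X, ← IsLocalization.map_comap W S Y]
      exact Ideal.map_mono (hMuniq _ _ (Ideal.IsPrime.comap _) (Ideal.IsPrime.comap _) (hcompQ X hX) (hcompQ Y hY))
    exact le_antisymm (h1 J I hJ hI) (h1 I J hI hJ)
  have hRinj : Function.Injective (algebraMap R S) := by
    refine (injective_iff_map_eq_zero _).2 fun r hr => ?_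
    obtain ⟨d, s, rfl⟩ := IsLocalization.exists_mk'_eq Q.primeCompl r
    have h1 : algebraMap R S (algebraMap (A ⊗[k] B) R d) = 0 := by
      rw [← IsLocalization.mk'_spec R d s, map_mul, hr, zero_mul]
    rw [hmap] at h1
    have h2 : ι d = 0 := IsLocalization.injective S hW (h1.trans (map_zero _).symm)
    rw [show d = 0 from hιinj (h2.trans (map_zero ι).symm), IsLocalization.mk'_zero]
  haveI : IsDomain R := IsLocalization.isDomain_localization Q.primeCompl_le_nonZeroDivisors
  obtain ⟨q, hq⟩ := ExpChar.exists (ResidueField R)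
  haveI := hq
  refine HensFormalLib.isGeomUnibranch_of_birational R S ?_ ?_ q ?_
  · rw [nilradical_eq_zero R, (RingHom.injective_iff_ker_eq_bot _).1 hRinj]
    rfl
  · intro s
    obtain ⟨t, ⟨_, x, hx, rfl⟩, rfl⟩ := IsLocalization.exists_mk'_eq W s
    obtain ⟨d, hd, e, he⟩ : ∃ d : A ⊗[k] B, d ≠ 0 ∧ ∃ e : A ⊗[k] B, ι d * t = ι e := by
      clear hx
      induction t using TensorProduct.induction_on with
      | zero => exact ⟨1, one_ne_zero, 0, by simp⟩
      | tmul u v =>
        obtain ⟨a, ha, c, hca⟩ := hbA u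
        obtain ⟨b, hb, c', hcb⟩ := hbB v
        refine ⟨a ⊗ₜ[k] b, ?_, c ⊗ₜ[k] c', ?_⟩
        · intro h
          have h2 : (a ⊗ₜ[k] (1 : B)) * ((1 : A) ⊗ₜ[k] b) = 0 := by
            rw [Algebra.TensorProduct.tmul_mul_tmul, mul_one, one_mul]; exact h
          rcases mul_eq_zero.1 h2 with h3 | h3
          · exact ha (Algebra.TensorProduct.includeLeft_injective (S := k)
              (FaithfulSMul.algebraMap_injective k B) (h3.trans (map_zero _).symm))
          · exact hb (Algebra.TensorProduct.includeRight_injective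
              (FaithfulSMul.algebraMap_injective k A) (h3.trans (map_zero _).symm))
        · rw [Algebra.TensorProduct.map_tmul, Algebra.TensorProduct.map_tmul, Algebra.TensorProduct.tmul_mul_tmul]
          simp only [ιA, ιB, IsScalarTower.toAlgHom_apply, hca, hcb]
      | add u v hu hv =>
        obtain ⟨d, hd, e, he⟩ := hu
        obtain ⟨d', hd', e', he'⟩ := hv
        exact ⟨d * d', mul_ne_zero hd hd', d' * e + d * e', by
          rw [map_mul, map_add, map_mul, map_mul, ← he, ← he']; ring⟩
    refine ⟨algebraMap (A ⊗[k] B) R (d * x), ?_, algebraMap (A ⊗[k] B) R e, ?_⟩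
    · rw [hmap]
      refine fun h => ?_
      have h2 : ι (d * x) = 0 := IsLocalization.injective S hW (h.trans (map_zero _).symm)
      exact mul_ne_zero hd (fun h0 : x = 0 => hx (show x ∈ Q by rw [h0]; exact zero_mem Q)) (hιinj (h2.trans (map_zero ι).symm))
    · rw [hmap, hmap, map_mul, map_mul, ← he, map_mul (algebraMap (NA ⊗[k] NB) S), mul_assoc]
      congr 1
      exact (mul_comm _ _).trans (IsLocalization.mk'_spec S t (⟨_, Algebra.mem_algebraMapSubmonoid_of_mem ⟨x, hx⟩⟩ : W))
  · intro s
    obtain ⟨t, w, rfl⟩ := IsLocalization.exists_mk'_eq W s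
    obtain ⟨c, hc⟩ := hMNres t
    obtain ⟨c', hc'⟩ := hMNres (w : (NA ⊗[k] NB))
    let IM := maximalIdeal S
    have hle : MN ≤ IM.comap (algebraMap (NA ⊗[k] NB) S) :=
      haveI : (IM.comap (algebraMap (NA ⊗[k] NB) S)).IsPrime := Ideal.IsPrime.comap _
      hMNle _ (hcompQ IM (maximalIdeal.isMaximal S))
    have hc'0 : c' ≠ 0 := fun h => by
      rw [h, map_zero, sub_zero] at hc'
      exact (mem_maximalIdeal _).1 (hle hc') (IsLocalization.map_units S w)
    refine ⟨0, algebraMap (A ⊗[k] B) R (algebraMap k (A ⊗[k] B) (c * c'⁻¹)), ?_⟩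
    rw [pow_zero, pow_one, hmap, AlgHom.commutes]
    have hu : IsUnit (algebraMap (NA ⊗[k] NB) S (w : (NA ⊗[k] NB))) := IsLocalization.map_units S w
    have h1 : (t - algebraMap k (NA ⊗[k] NB) c) - algebraMap k (NA ⊗[k] NB) (c * c'⁻¹) * ((w : (NA ⊗[k] NB)) - algebraMap k (NA ⊗[k] NB) c') ∈ MN :=
      MN.sub_mem hc (MN.mul_mem_left _ hc')
    rw [mul_sub, ← map_mul, mul_assoc, inv_mul_cancel₀ hc'0, mul_one, sub_sub_sub_cancel_right] at h1
    have h2 := hle h1
    rw [Ideal.mem_comap, map_sub, map_mul, ← IsLocalization.mk'_spec S t w, ← sub_mul] at h2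
    exact (Ideal.mul_unit_mem_iff_mem _ hu).1 h2

/-- The localization at the origin of the tensor product of two henselian local domains is geometrically unibranch. -/
theorem isGeomUnibranch_localization (A B : Type u) [CommRing A] [IsDomain A] [HenselianLocalRing A] [Algebra k A]
    [CommRing B] [IsDomain B] [HenselianLocalRing B] [Algebra k B]
    (hA : Function.Bijective ((residue A).comp (algebraMap k A)))
    (hB : Function.Bijective ((residue B).comp (algebraMap k B)))
    (Q : Ideal (A ⊗[k] B)) [Q.IsPrime] (hQA : ∀ a ∈ maximalIdeal A, a ⊗ₜ[k] (1 : B) ∈ Q)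
    (hQB : ∀ b ∈ maximalIdeal B, (1 : A) ⊗ₜ[k] b ∈ Q) :
    CAlg2.IsGeomUnibranch (Localization.AtPrime Q) := by
  let LA := FractionRing A
  let LB := FractionRing B
  let NA := integralClosure A LA
  let NB := integralClosure B LB
  haveI : IsIntegrallyClosed NA := integralClosure.isIntegrallyClosedOfFiniteExtension (R := A) LA
  haveI : IsIntegrallyClosed NB := integralClosure.isIntegrallyClosedOfFiniteExtension (R := B) LB
  haveI : IsLocalRing NA := HensFormalLib.isLocalRing_of_integral_domain A NA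
  haveI : IsLocalRing NB := HensFormalLib.isLocalRing_of_integral_domain B NB
  have hiA : Function.Injective (algebraMap A NA) := fun x y h => IsFractionRing.injective A LA (congrArg Subtype.val h)
  have hiB : Function.Injective (algebraMap B NB) := fun x y h => IsFractionRing.injective B LB (congrArg Subtype.val h)
  refine isGeomUnibranch_localization_aux A B NA NB hiA hiB (fun u => ?_) (fun u => ?_) (exists_residue A NA hA)
    (exists_residue B NB hB) Q hQA hQB
  · obtain ⟨⟨c, a⟩, h⟩ := IsLocalization.surj (nonZeroDivisors A) (u : LA)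
    exact ⟨a, nonZeroDivisors.coe_ne_zero a, c, Subtype.ext ((mul_comm _ _).trans h)⟩
  · obtain ⟨⟨c, a⟩, h⟩ := IsLocalization.surj (nonZeroDivisors B) (u : LB)
    exact ⟨a, nonZeroDivisors.coe_ne_zero a, c, Subtype.ext ((mul_comm _ _).trans h)⟩

end TensorBranchLib
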